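import Mathlib.Algebra.Group.Subgroup.Basic
import Mathlib.GroupTheory.QuotientGroup.Basic
import Mathlib.Algebra.Exact.Basic
import Mathlib.Data.ZMod.Basic

/-!
# Long exact sequences of abelian groups with three periodic terms

`LES a r d`: `0 → A 0 → B 0 → C 0 → A 1 → B 1 → ⋯`.
-/

set_option autoImplicit false

namespace Groth.Agent.Vancyc.H676.AbsLES

universe v

/-- A long exact sequence `0 → A 0 → B 0 → C 0 → A 1 → B 1 → ⋯`. -/
structure LES {A B C : ℕ → Type v} [∀ q, AddCommGroup (A q)] [∀ q, AddCommGroup (B q)]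
    [∀ q, AddCommGroup (C q)] (a : ∀ q, A q →+ B q) (r : ∀ q, B q →+ C q)
    (d : ∀ q, C q →+ A (q + 1)) : Prop where
  inj : Function.Injective (a 0)
  exB : ∀ q, Function.Exact (a q) (r q)
  exC : ∀ q, Function.Exact (r q) (d q)
  exA : ∀ q, Function.Exact (d q) (a (q + 1))

section

variable {A B C : ℕ → Type v} [∀ q, AddCommGroup (A q)] [∀ q, AddCommGroup (B q)]
    [∀ q, AddCommGroup (C q)] {a : ∀ q, A q →+ B q} {r : ∀ q, B q →+ C q}
    {d : ∀ q, C q →+ A (q + 1)} (h : LES a r d)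

include h

theorem LES.equiv (q : ℕ) (h1 : Subsingleton (B q)) (h2 : Subsingleton (B (q + 1))) :
    Nonempty (A (q + 1) ≃+ C q) := by
  refine ⟨(AddEquiv.ofBijective (d q) ⟨?_, ?_⟩).symm⟩
  · rw [injective_iff_map_eq_zero]
    intro x hx
    obtain ⟨y, rfl⟩ := (h.exC q x).1 hx
    rw [Subsingleton.elim y 0, map_zero]
  · intro x
    exact (h.exA q x).1 (Subsingleton.elim _ _)

theorem LES.succ (q : ℕ) (h1 : Subsingleton (C q)) (h2 : Subsingleton (B (q + 1))) :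
    Subsingleton (A (q + 1)) := by
  have key : ∀ x : A (q + 1), x = 0 := by
    intro x
    obtain ⟨y, rfl⟩ := (h.exA q x).1 (Subsingleton.elim _ _)
    rw [Subsingleton.elim y 0, map_zero]
  exact ⟨fun x y => (key x).trans (key y).symm⟩

theorem LES.zero (hr : Function.Injective (r 0)) : Subsingleton (A 0) := by
  refine ⟨fun x y => h.inj (hr ?_)⟩
  rw [(h.exB 0 (a 0 x)).2 ⟨x, rfl⟩, (h.exB 0 (a 0 y)).2 ⟨y, rfl⟩]

theorem LES.one (hr : Function.Surjective (r 0)) (h2 : Subsingleton (B 1)) :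
    Subsingleton (A 1) := by
  have key : ∀ x : A 1, x = 0 := by
    intro x
    obtain ⟨y, rfl⟩ := (h.exA 0 x).1 (Subsingleton.elim _ _)
    obtain ⟨z, rfl⟩ := hr y
    exact (h.exC 0 (r 0 z)).2 ⟨z, rfl⟩
  exact ⟨fun x y => (key x).trans (key y).symm⟩

theorem LES.bij (h0 : Subsingleton (A 0)) (h1 : Subsingleton (A 1)) :
    Function.Bijective (r 0) := by
  constructor
  · rw [injective_iff_map_eq_zero]
    intro x hx
    obtain ⟨y, rfl⟩ := (h.exB 0 x).1 hx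
    rw [Subsingleton.elim y 0, map_zero]
  · intro x
    exact (h.exC 0 x).1 (Subsingleton.elim _ _)

theorem LES.surj (h2 : Subsingleton (B 1)) : Function.Surjective (d 0) := fun x =>
  (h.exA 0 x).1 (Subsingleton.elim _ _)

end

/-- Abstract group theory of two points. -/
theorem twoPt_group {A D B C E : Type v} [AddCommGroup A] [AddCommGroup D] [AddCommGroup B]
    [AddCommGroup C] [AddCommGroup E] (r : A →+ D) (π₁ : D →+ B) (π₂ : D →+ C)
    (h : Function.Bijective (fun x => (π₁ x, π₂ x))) (h₁ : Function.Bijective (fun a => π₁ (r a)))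
    (h₂ : Function.Bijective (fun a => π₂ (r a))) (d : D →+ E) (hd : Function.Exact r d)
    (hs : Function.Surjective d) : Function.Injective r ∧ Nonempty (E ≃+ C) := by
  let e₁ : A ≃+ B := AddEquiv.ofBijective (π₁.comp r) h₁
  let e₂ : A ≃+ C := AddEquiv.ofBijective (π₂.comp r) h₂
  have he₁ : ∀ a, e₁ a = π₁ (r a) := fun _ => rfl
  have he₂ : ∀ a, e₂ a = π₂ (r a) := fun _ => rfl
  refine ⟨fun a b hab => h₁.1 (congrArg π₁ hab), ?_⟩
  let ψ : D →+ C := π₂ - (e₂.toAddMonoidHom.comp e₁.symm.toAddMonoidHom).comp π₁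
  have hψ : ∀ x, ψ x = π₂ x - e₂ (e₁.symm (π₁ x)) := fun _ => rfl
  have hψs : Function.Surjective ψ := by
    intro c
    obtain ⟨x, hx⟩ := h.2 (0, c)
    have h1 : π₁ x = 0 := congrArg Prod.fst hx
    have h2 : π₂ x = c := congrArg Prod.snd hx
    refine ⟨x, ?_⟩
    rw [hψ, h1, h2, map_zero, map_zero, sub_zero]
  have hk : ψ.ker = d.ker := by
    ext x
    rw [AddMonoidHom.mem_ker, AddMonoidHom.mem_ker, hψ, sub_eq_zero, hd x]
    constructor
    · intro hx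
      refine ⟨e₁.symm (π₁ x), h.1 (Prod.ext ?_ ?_)⟩
      · change π₁ (r _) = π₁ x
        rw [← he₁, AddEquiv.apply_symm_apply]
      · change π₂ (r _) = π₂ x
        rw [← he₂, hx]
    · rintro ⟨a, rfl⟩
      rw [← he₁, AddEquiv.symm_apply_apply, he₂]
  exact ⟨(QuotientAddGroup.quotientKerEquivOfSurjective d hs).symm.trans
    ((QuotientAddGroup.quotientAddEquivOfEq hk.symm).trans
      (QuotientAddGroup.quotientKerEquivOfSurjective ψ hψs))⟩

/-- Graded groups concentrated in degrees `0` and `n`, with value `ℤ/N`. -/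
structure GSphere (N n : ℕ) (C : ℕ → Type v) [∀ q, AddCommGroup (C q)] : Prop where
  h0 : Nonempty (C 0 ≃+ ZMod N)
  hq : ∀ q : ℕ, 1 ≤ q → q ≠ n → Subsingleton (C q)
  hn : Nonempty (C n ≃+ ZMod N)

section shift

variable {N : ℕ} {A B C : ℕ → Type v} [∀ q, AddCommGroup (A q)] [∀ q, AddCommGroup (B q)]
    [∀ q, AddCommGroup (C q)] {a : ∀ q, A q →+ B q} {r : ∀ q, B q →+ C q}
    {d : ∀ q, C q →+ A (q + 1)} (h : LES a r d)
    (hB0 : Nonempty (B 0 ≃+ ZMod N)) (hB : ∀ q, 0 < q → Subsingleton (B q))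
    (s0 : Subsingleton (A 0)) (s1 : Subsingleton (A 1))
    {A' : ℕ → Type v} [∀ q, AddCommGroup (A' q)] (sh : ∀ q, Nonempty (A (q + 2) ≃+ A' q))

include h hB sh

theorem key (q : ℕ) : Nonempty (C (q + 1) ≃+ A' q) := by
  obtain ⟨e1⟩ := h.equiv (q + 1) (hB _ (by omega)) (hB _ (by omega))
  obtain ⟨e2⟩ := sh q
  exact ⟨e1.symm.trans e2⟩

include hB0 s0 s1

theorem gsphere_of_point (h0 : Nonempty (A' 0 ≃+ ZMod N)) (hA : ∀ q, 0 < q → Subsingleton (A' q)) :
    GSphere N 1 C := by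
  obtain ⟨e0⟩ := hB0
  refine ⟨⟨(AddEquiv.ofBijective (r 0) (h.bij s0 s1)).symm.trans e0⟩, fun q h1 h2 => ?_, ?_⟩
  · obtain ⟨q, rfl⟩ : ∃ q', q = q' + 1 := ⟨q - 1, by omega⟩
    obtain ⟨e1⟩ := key h hB sh q
    have := hA q (by omega)
    exact e1.toEquiv.subsingleton
  · obtain ⟨e1⟩ := key h hB sh 0
    obtain ⟨e2⟩ := h0
    exact ⟨e1.trans e2⟩

theorem gsphere_of_two (h0 : Subsingleton (A' 0)) (h1 : Nonempty (A' 1 ≃+ ZMod N))
    (hA : ∀ q, 2 ≤ q → Subsingleton (A' q)) : GSphere N 2 C := by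
  obtain ⟨e0⟩ := hB0
  refine ⟨⟨(AddEquiv.ofBijective (r 0) (h.bij s0 s1)).symm.trans e0⟩, fun q h3 h4 => ?_, ?_⟩
  · obtain ⟨q, rfl⟩ : ∃ q', q = q' + 1 := ⟨q - 1, by omega⟩
    obtain ⟨e1⟩ := key h hB sh q
    rcases Nat.eq_zero_or_pos q with rfl | hq
    · exact e1.toEquiv.subsingleton
    · have := hA q (by omega)
      exact e1.toEquiv.subsingleton
  · obtain ⟨e1⟩ := key h hB sh 1
    obtain ⟨e2⟩ := h1
    exact ⟨e1.trans e2⟩

theorem gsphere_of_gsphere {B' C' : ℕ → Type v} [∀ q, AddCommGroup (B' q)]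
    [∀ q, AddCommGroup (C' q)] {a' : ∀ q, A' q →+ B' q} {r' : ∀ q, B' q →+ C' q}
    {d' : ∀ q, C' q →+ A' (q + 1)} (h' : LES a' r' d') (hB' : ∀ q, 0 < q → Subsingleton (B' q))
    (hr' : Function.Bijective (r' 0)) {n : ℕ} (hn : 1 ≤ n) (hC : GSphere N n C') :
    GSphere N (n + 2) C := by
  have z0 := h'.zero hr'.1
  have z1 := h'.one hr'.2 (hB' 1 one_pos)
  obtain ⟨e0⟩ := hB0
  refine ⟨⟨(AddEquiv.ofBijective (r 0) (h.bij s0 s1)).symm.trans e0⟩, fun q h3 h4 => ?_, ?_⟩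
  · obtain ⟨q, rfl⟩ : ∃ q', q = q' + 1 := ⟨q - 1, by omega⟩
    obtain ⟨e1⟩ := key h hB sh q
    match q, e1, h4 with
    | 0, e1, _ => exact e1.toEquiv.subsingleton
    | 1, e1, _ => exact e1.toEquiv.subsingleton
    | q + 2, e1, h4 =>
      obtain ⟨e2⟩ := h'.equiv (q + 1) (hB' _ (by omega)) (hB' _ (by omega))
      have := hC.hq (q + 1) (by omega) (by omega)
      exact (e1.trans e2).toEquiv.subsingleton
  · obtain ⟨n, rfl⟩ : ∃ n', n = n' + 1 := ⟨n - 1, by omega⟩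
    obtain ⟨e1⟩ := key h hB sh (n + 2)
    obtain ⟨e2⟩ := h'.equiv (n + 1) (hB' _ (by omega)) (hB' _ (by omega))
    obtain ⟨e3⟩ := hC.hn
    exact ⟨e1.trans (e2.trans e3)⟩

end shift

end Groth.Agent.Vancyc.H676.AbsLES
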