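import Groth.Agent.EtpbcA.LATrans
import Groth.Agent.Etrest.HpullConst
import Groth.Agent.Etrest.SHPoint
import Groth.Prelude.Def_VanCyc

/-!
# Stalks of nearby cycles in terms of strict localizations (non-equivariant)

* `nonempty_stalk_iso`: the stalk of `R^q eps_* G` is `H^q(Y ×_X Spec C, G)`, `Spec C ⟶ X` a strict
  localization.
* `stalk_unit_iff`: the unit `F ⟶ eps_* eps⁻¹ F` on stalks, in terms of `Hpull` in degree zero.
* `bijective_Hpull_zero`: `Hpull` in degree zero is bijective for `ℤ/N` if both schemes have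
  `H⁰ = ℤ/N`.
* `SphereType R Ω N n s`: the geometric generic fibre of `s : W ⟶ Spec R` has the `ℤ/N`-cohomology
  of an `n`-sphere; `SphereType.of_iso`.
* `nearby_of_sphereType`: the conclusion of S3994 at a geometric point from `SphereType` of a strict
  localization.
-/

set_option autoImplicit false
universe u

open CategoryTheory CategoryTheory.Limits AlgebraicGeometry Opposite IsLocalRing

namespace Groth.Agent.Vancyc.H676.EC0

open EtCoh Groth.Agent.EtpbcB Groth.Agent.Etrest.StrictLoc Groth.Agent.Sga1.UlaRes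
  Groth.Agent.Sga1.UlaGeo Groth.Agent.Sga1.UlaLoc Groth.Agent.Sga1.UlaSL Groth.Agent.EtpbcA.LA

section strictLoc

variable {X Y : Scheme.{u}} (eps : Y ⟶ X) [QuasiCompact eps] [QuasiSeparated eps]
  {Ω : Type u} [Field Ω] [IsSepClosed Ω] (ξ : Spec (CommRingCat.of Ω) ⟶ X)
  {C : Type u} [CommRing C] [IsLocalRing C] {τ : Spec (CommRingCat.of C) ⟶ X} (hτ : IsStrictLoc τ)
  (hξ : ξ default = τ (closedPoint C))
  {P : Scheme.{u}} {a : P ⟶ Y} {b : P ⟶ Spec (CommRingCat.of C)} (h : IsPullback a b eps τ)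

include hτ hξ h in
theorem exists_toBase : ∃ (g : EtpbcB.StrictLoc.Osh ξ →+* C) (_ : IsIso (spm g)),
    spm g ≫ EtpbcB.StrictLoc.toBase ξ = τ ∧
      IsPullback a (b ≫ spm g) eps (EtpbcB.StrictLoc.toBase ξ) := by
  have hO : @IsStrictLoc X (EtpbcB.StrictLoc.Osh ξ) _ inferInstance (EtpbcB.StrictLoc.toBase ξ) :=
    EtpbcB.OshHens.isStrictLoc_toBase ξ
  have hpt : EtpbcB.StrictLoc.toBase ξ (closedPoint (EtpbcB.StrictLoc.Osh ξ)) = ξ default := by
    rw [← EtpbcB.StrictLoc.pt_default]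
    exact congrArg (fun q => q default) (EtpbcB.StrictLoc.pt_toBase ξ)
  obtain ⟨g, hg1, hg2, hg3⟩ := hO.exists_equiv hτ (hpt.trans hξ)
  have hgi : IsIso (spm g) := isIso_spm g hg2
  exact ⟨g, hgi, hg3, IsPullback.of_iso h (Iso.refl _) (Iso.refl _) (asIso (spm g)) (Iso.refl _)
      (by simp) (by simp) (by simp) (by
        rw [Iso.refl_hom, Category.comp_id, asIso_hom, hg3])⟩

include hτ hξ h in
/-- The stalk of a higher direct image in terms of a strict localization. -/
theorem nonempty_stalk_iso (G : Ab Y) (q : ℕ) :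
    Nonempty ((stalk ξ).obj ((Rpush eps q).obj G) ≅
      AddCommGrpCat.of (H P ((pull a).obj G) q)) := by
  obtain ⟨g, _, -, h'⟩ := exists_toBase eps ξ hτ hξ h
  exact Etcore.StalkLimN.nonempty_stalk_Rpush_iso eps ξ h' G q

include hτ hξ h in
/-- The unit on stalks in terms of a strict localization. -/
theorem stalk_unit_iff (F : Ab X) :
    Function.Bijective ((stalk ξ).map ((pullPushAdj eps).unit.app F)) ↔
      Function.Bijective (EtCore.Hpull b ((pull τ).obj F) 0) := by
  obtain ⟨g, _, hg3, h'⟩ := exists_toBase eps ξ hτ hξ h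
  refine (EtpbcA.LA.stalk_unit_iff eps F ξ h').trans ?_
  have w : (b ≫ spm g) ≫ EtpbcB.StrictLoc.toBase ξ = b ≫ τ := by rw [Category.assoc, hg3]
  refine (res_bijective_iff F (b ≫ spm g) (EtpbcB.StrictLoc.toBase ξ) (b ≫ τ) w 0).symm.trans ?_
  refine Iff.trans ?_ (res_bijective_iff F b τ (b ≫ τ) rfl 0)
  have e : (res F (b ≫ spm g) (EtpbcB.StrictLoc.toBase ξ) (b ≫ τ) w 0 : _ → _) =
      (res F b τ (b ≫ τ) rfl 0 : _ → _) ∘
        (res F (spm g) (EtpbcB.StrictLoc.toBase ξ) τ hg3 0 : _ → _) :=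
    funext fun x => (res_comp F b (spm g) _ rfl _ _ _ hg3 rfl w 0 x).symm
  rw [e]
  exact Function.Bijective.of_comp_iff _ (res_bijective F (spm g) _ _ hg3 0)

end strictLoc

open Etrest.HpullConst in
/-- `Hpull` in degree zero for the constant sheaf `ℤ/N`. -/
theorem bijective_Hpull_zero {X Y : Scheme.{u}} (f : X ⟶ Y) [PreservesFiniteLimits (EtCoh.pull f)]
    (N : ℕ) [NeZero N] (hX : Nonempty (H X (const X (ZMod N)) 0 ≃+ ZMod N))
    (hY : Nonempty (H Y (const Y (ZMod N)) 0 ≃+ ZMod N)) :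
    Function.Bijective (EtCore.Hpull f (EtCoh.const Y (ZMod N)) 0) := by
  have h1 : ∀ Z : Scheme.{u}, Nonempty (H Z (const Z (ZMod N)) 0 ≃+ ZMod N) →
      IsIso ((constantSheafAdj Z.smallEtaleTopology
        AddCommGrpCat.{u + 1} (EtCore.topIsTerminal Z)).unit.app
          (AddCommGrpCat.of (ULift.{u + 1} (ZMod N)))) := fun Z hZ =>
      (isIso_unit_iff Z (ULift.{u + 1} (ZMod N)) (EtCore.topIsTerminal Z)).2
        (bijective_const_of_equiv Z (ZMod N) hZ)
  exact bijective_Hpull_zero_const f (AddCommGrpCat.of (ULift.{u + 1} (ZMod N)))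
    (constU_map_bijective X _ _ (EtCore.topIsTerminal X) (h1 X hX))
    (constU_map_bijective Y _ _ (EtCore.topIsTerminal Y) (h1 Y hY))

end Groth.Agent.Vancyc.H676.EC0
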