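import Groth.Agent.Vancyc.H676.EC0
import Groth.Agent.Etrest.HConstIso

/-!
# Spherical points: the Milnor fibre of a strict localization has the cohomology of a sphere

* `SphereType R Ω N n s`: the geometric generic fibre of `s : W ⟶ Spec R` has the `ℤ/N`-cohomology
  of an `n`-sphere; `SphereType.of_iso`.
* `IsSphereAt R Ω N n f x`: `SphereType` for one (equivalently, every) strict localization of `X` at
  `x`; invariance under (weakly) étale maps of the source.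
* `nearby_of_isSphereAt`: the conclusion of S3994 at a geometric point from `IsSphereAt`.
-/

set_option autoImplicit false
universe u

open CategoryTheory CategoryTheory.Limits AlgebraicGeometry Opposite IsLocalRing

namespace Groth.Agent.Vancyc.H676.EC1

open EtCoh Groth.Agent.EtpbcB Groth.Agent.Etrest.StrictLoc Groth.Agent.Sga1.UlaRes
  Groth.Agent.Sga1.UlaGeo Groth.Agent.Sga1.UlaLoc Groth.Agent.Sga1.UlaSL Groth.Agent.EtpbcA.LA
  Groth.Agent.Vancyc.H676.EC0

variable (R : Type u) [CommRing R] (Ω : Type u) [Field Ω] [Algebra R Ω]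

/-- The geometric generic fibre of `s : W ⟶ Spec R` has the `ℤ/N`-cohomology of an `n`-sphere
(`n ≥ 1`). -/
structure SphereType (N n : ℕ) {W : Scheme.{u}} (s : W ⟶ Spec (CommRingCat.of R)) : Prop where
  h0 : Nonempty (H (VanCyc.fib R s Ω) (const (VanCyc.fib R s Ω) (ZMod N)) 0 ≃+ ZMod N)
  hq : ∀ q : ℕ, 1 ≤ q → q ≠ n →
    Subsingleton (H (VanCyc.fib R s Ω) (const (VanCyc.fib R s Ω) (ZMod N)) q)
  hn : Nonempty (H (VanCyc.fib R s Ω) (const (VanCyc.fib R s Ω) (ZMod N)) n ≃+ ZMod N)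

variable {R Ω}

/-- Isomorphic schemes over `Spec R` have isomorphic geometric generic fibres. -/
noncomputable def fibIso {W W' : Scheme.{u}} (s : W ⟶ Spec (CommRingCat.of R))
    (s' : W' ⟶ Spec (CommRingCat.of R)) (e : W ≅ W') (h : e.hom ≫ s' = s) :
    VanCyc.fib R s Ω ≅ VanCyc.fib R s' Ω :=
  asIso (pullback.map s (VanCyc.toS R Ω) s' (VanCyc.toS R Ω) e.hom (𝟙 _) (𝟙 _)
    (by rw [h, Category.comp_id]) (by simp))

theorem SphereType.of_iso {N n : ℕ} {W W' : Scheme.{u}} {s : W ⟶ Spec (CommRingCat.of R)}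
    {s' : W' ⟶ Spec (CommRingCat.of R)} (h : SphereType R Ω N n s) (e : W ≅ W')
    (he : e.hom ≫ s' = s) : SphereType R Ω N n s' := by
  have key : ∀ q, Nonempty (H (VanCyc.fib R s Ω) (const (VanCyc.fib R s Ω) (ZMod N)) q ≃+
      H (VanCyc.fib R s' Ω) (const (VanCyc.fib R s' Ω) (ZMod N)) q) := fun q =>
    Etrest.HConstIso.nonempty_HConst (fibIso s s' e he).symm (ZMod N) q
  refine ⟨?_, ?_, ?_⟩
  · obtain ⟨e1⟩ := key 0
    obtain ⟨e2⟩ := h.h0
    exact ⟨e1.symm.trans e2⟩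
  · intro q h1 h2
    obtain ⟨e1⟩ := key q
    have := h.hq q h1 h2
    exact e1.symm.toEquiv.subsingleton
  · obtain ⟨e1⟩ := key n
    obtain ⟨e2⟩ := h.hn
    exact ⟨e1.symm.trans e2⟩

variable (R Ω)

/-- The Milnor fibre of `f : X ⟶ Spec R` at `x` has the `ℤ/N`-cohomology of an `n`-sphere. -/
def IsSphereAt (N n : ℕ) {X : Scheme.{u}} (f : X ⟶ Spec (CommRingCat.of R)) (x : X) : Prop :=
  ∃ (C : Type u) (_ : CommRing C) (_ : IsLocalRing C) (τ : Spec (CommRingCat.of C) ⟶ X),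
    IsStrictLoc τ ∧ τ (closedPoint C) = x ∧ SphereType R Ω N n (τ ≫ f)

variable {R Ω}

theorem IsSphereAt.sphereType {N n : ℕ} {X : Scheme.{u}} {f : X ⟶ Spec (CommRingCat.of R)} {x : X}
    (h : IsSphereAt R Ω N n f x) {C : Type u} [CommRing C] [IsLocalRing C]
    {τ : Spec (CommRingCat.of C) ⟶ X} (hτ : IsStrictLoc τ) (hx : τ (closedPoint C) = x) :
    SphereType R Ω N n (τ ≫ f) := by
  obtain ⟨C', _, _, τ', hτ', hx', h'⟩ := h
  obtain ⟨g, _, hg, hg'⟩ := hτ'.exists_equiv hτ (hx'.trans hx.symm)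
  have : IsIso (spm g) := isIso_spm g hg
  refine h'.of_iso (asIso (spm g)).symm ?_
  rw [Iso.symm_hom, asIso_inv, IsIso.inv_comp_eq, ← Category.assoc, hg']

/-- Invariance under weakly étale maps of the source. -/
theorem isSphereAt_comp_iff {N n : ℕ} {U X : Scheme.{u}} (p : U ⟶ X) [WeaklyEtale p]
    (f : X ⟶ Spec (CommRingCat.of R)) (z : U) :
    IsSphereAt R Ω N n (p ≫ f) z ↔ IsSphereAt R Ω N n f (p z) := by
  constructor
  · rintro ⟨C, _, _, τ, hτ, hx, h⟩
    exact ⟨C, _, _, τ ≫ p, hτ.comp p, by rw [Scheme.Hom.comp_apply, hx], by rwa [Category.assoc]⟩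
  · intro h
    obtain ⟨C, _, _, τ, hτ, hx⟩ := exists_isStrictLoc U z
    refine ⟨C, _, _, τ, hτ, hx, ?_⟩
    have := h.sphereType (hτ.comp p) (by rw [Scheme.Hom.comp_apply, hx])
    rwa [Category.assoc] at this

theorem connectedSpace_spec (C : Type u) [CommRing C] [IsLocalRing C] :
    ConnectedSpace (Spec (CommRingCat.of C)) := by
  have h1 : ConnectedSpace (PrimeSpectrum C) := by
    refine { toPreconnectedSpace := ⟨?_⟩, toNonempty := inferInstance }
    have h2 : (Set.univ : Set (PrimeSpectrum C)) = closure (Set.univ) := closure_univ.symm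
    refine isPreconnected_of_forall (closedPoint C) fun y _ => ?_
    refine ⟨closure {y}, Set.subset_univ _, ?_, subset_closure rfl,
      (isPreconnected_singleton).closure⟩
    rw [← specializes_iff_mem_closure]
    exact specializes_closedPoint y
  exact h1

section nearby

variable {X : Scheme.{u}} (f : X ⟶ Spec (CommRingCat.of R))

/-- The geometric generic fibre of a strict localization maps to that of `X`. -/
noncomputable def fibMap {W : Scheme.{u}} (τ : W ⟶ X) :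
    VanCyc.fib R (τ ≫ f) Ω ⟶ VanCyc.fib R f Ω :=
  pullback.lift (pullback.fst (τ ≫ f) (VanCyc.toS R Ω) ≫ τ) (pullback.snd (τ ≫ f) (VanCyc.toS R Ω))
    (by rw [Category.assoc, pullback.condition])

theorem isPullback_fibMap {W : Scheme.{u}} (τ : W ⟶ X) :
    IsPullback (fibMap (Ω := Ω) f τ) (VanCyc.jA R (τ ≫ f) Ω) (VanCyc.jA R f Ω) τ := by
  have h1 : IsPullback (VanCyc.fibStr R f Ω) (VanCyc.jA R f Ω) (VanCyc.toS R Ω) f :=
    (IsPullback.of_hasPullback f (VanCyc.toS R Ω)).flip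
  have h2 : IsPullback (fibMap (Ω := Ω) f τ ≫ VanCyc.fibStr R f Ω) (VanCyc.jA R (τ ≫ f) Ω)
      (VanCyc.toS R Ω) (τ ≫ f) := by
    have h3 : fibMap (Ω := Ω) f τ ≫ VanCyc.fibStr R f Ω = VanCyc.fibStr R (τ ≫ f) Ω :=
      pullback.lift_snd _ _ _
    rw [h3]
    exact (IsPullback.of_hasPullback (τ ≫ f) (VanCyc.toS R Ω)).flip
  exact IsPullback.of_right h2 (pullback.lift_fst _ _ _) h1

variable [IsLocalRing R]

instance (R : Type u) [CommRing R] (Ω : Type u) [Field Ω] [Algebra R Ω] {X : Scheme.{u}}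
    (f : X ⟶ Spec (CommRingCat.of R)) : QuasiCompact (VanCyc.jA R f Ω) :=
  inferInstanceAs (QuasiCompact (pullback.fst f (VanCyc.toS R Ω)))

instance (R : Type u) [CommRing R] (Ω : Type u) [Field Ω] [Algebra R Ω] {X : Scheme.{u}}
    (f : X ⟶ Spec (CommRingCat.of R)) : QuasiSeparated (VanCyc.jA R f Ω) :=
  inferInstanceAs (QuasiSeparated (pullback.fst f (VanCyc.toS R Ω)))

/-- The conclusion of S3994 at a geometric point over a spherical point. -/
theorem nearby_of_isSphereAt {N n : ℕ} [NeZero N] {Ω' : Type u} [Field Ω'] [IsSepClosed Ω']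
    (ξ : Spec (CommRingCat.of Ω') ⟶ VanCyc.spFib R f)
    (h : IsSphereAt R Ω N n f ((ξ ≫ VanCyc.icl R f) default)) :
    IsIso ((EtCoh.stalk ξ).map (VanCyc.psi0Unit R Ω f (EtCoh.const X (ZMod N)))) ∧
      (∀ q : ℕ, 1 ≤ q → q ≠ n →
        IsZero ((EtCoh.stalk ξ).obj (VanCyc.psi R Ω f q
          ((EtCoh.pull (VanCyc.jA R f Ω)).obj (EtCoh.const X (ZMod N)))))) ∧
      Nonempty ((EtCoh.stalk ξ).obj (VanCyc.psi R Ω f n
          ((EtCoh.pull (VanCyc.jA R f Ω)).obj (EtCoh.const X (ZMod N)))) ≅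
        AddCommGrpCat.of (ULift.{u + 1} (ZMod N))) := by
  obtain ⟨C, _, _, τ, hτ, hx, hs⟩ := h
  have hP := isPullback_fibMap (Ω := Ω) f τ
  have hpt : (ξ ≫ VanCyc.icl R f) default = τ (closedPoint C) := hx.symm
  let eK : EtCoh.pull (VanCyc.icl R f) ⋙ EtCoh.stalk ξ ≅ EtCoh.stalk (ξ ≫ VanCyc.icl R f) :=
    (Etbase.StalkPull.stalkPullIso (VanCyc.icl R f) ξ).symm
  have key : ∀ q, Nonempty ((EtCoh.stalk ξ).obj (VanCyc.psi R Ω f q
          ((EtCoh.pull (VanCyc.jA R f Ω)).obj (EtCoh.const X (ZMod N)))) ≅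
        AddCommGrpCat.of (H (VanCyc.fib R (τ ≫ f) Ω)
          (const (VanCyc.fib R (τ ≫ f) Ω) (ZMod N)) q)) := by
    intro q
    obtain ⟨e1⟩ := nonempty_stalk_iso (VanCyc.jA R f Ω) (ξ ≫ VanCyc.icl R f) hτ hpt hP
      ((EtCoh.pull (VanCyc.jA R f Ω)).obj (EtCoh.const X (ZMod N))) q
    have e2 : (EtCoh.pull (fibMap (Ω := Ω) f τ)).obj
        ((EtCoh.pull (VanCyc.jA R f Ω)).obj (EtCoh.const X (ZMod N))) ≅
        const (VanCyc.fib R (τ ≫ f) Ω) (ZMod N) :=
      (EtCoh.pull (fibMap (Ω := Ω) f τ)).mapIso (EtCore.pullConst (VanCyc.jA R f Ω) (ZMod N)) ≪≫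
        EtCore.pullConst (fibMap (Ω := Ω) f τ) (ZMod N)
    exact ⟨eK.app _ ≪≫ e1 ≪≫ (EtCoh.HF (VanCyc.fib R (τ ≫ f) Ω) q).mapIso e2⟩
  have hC := connectedSpace_spec C
  refine ⟨?_, ?_, ?_⟩
  · have h1 : IsIso ((EtCoh.stalk (ξ ≫ VanCyc.icl R f)).map
        ((EtCoh.pullPushAdj (VanCyc.jA R f Ω)).unit.app (EtCoh.const X (ZMod N)))) := by
      rw [ConcreteCategory.isIso_iff_bijective]
      refine (stalk_unit_iff (VanCyc.jA R f Ω) (ξ ≫ VanCyc.icl R f) hτ hpt hP
        (EtCoh.const X (ZMod N))).2 ?_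
      refine (Etrest.HpullConst.bijective_Hpull_iff_of_iso _ 0
        (EtCore.pullConst τ (ZMod N))).2 ?_
      exact bijective_Hpull_zero _ N hs.h0
        (Etrest.SHPoint.nonempty_H0_const (Spec (CommRingCat.of C)) (ZMod N))
    exact (NatIso.isIso_map_iff eK _).2 h1
  · intro q h1 h2
    obtain ⟨e⟩ := key q
    have := hs.hq q h1 h2
    exact IsZero.of_iso (AddCommGrpCat.isZero_of_subsingleton _) e
  · obtain ⟨e⟩ := key n
    obtain ⟨e2⟩ := hs.hn
    exact ⟨e ≪≫ (e2.trans AddEquiv.ulift.symm).toAddCommGrpIso⟩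

end nearby

end Groth.Agent.Vancyc.H676.EC1
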