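import Groth.Agent.Sga4B.P1Transl

/-!
# The complement of the divisor `{y u = g v}` in the projective line

`B` a ring, `y g : B`.  `vset B y g` is the open subset of `P^1_B` which is `D(y X - g)` in the chart
`0` and `D(y - g X)` in the chart `1`; compatibility with base change; over a field, its complement is
a rational point if `(y, g) ≠ (0, 0)`.
-/

set_option autoImplicit false
universe u

open CategoryTheory CategoryTheory.Limits AlgebraicGeometry Opposite Polynomial

namespace Groth.Agent.Vancyc.H676.P1V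

open P1 Groth.Agent.CycB.P1Chart Groth.Agent.EtpbcA.P1Charts Groth.Agent.Sga4B.P1Transl

variable (B : CommRingCat.{u}) (y g : B)

/-- The equation of the divisor `{y u = g v}` in the two charts. -/
noncomputable def eqn (i : Fin (1 + 1)) : Polynomial B :=
  if i = 0 then Polynomial.C y * Polynomial.X - Polynomial.C g
  else Polynomial.C y - Polynomial.C g * Polynomial.X

theorem eqn_zero : eqn B y g 0 = Polynomial.C y * Polynomial.X - Polynomial.C g := if_pos rfl

theorem eqn_one : eqn B y g 1 = Polynomial.C y - Polynomial.C g * Polynomial.X :=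
  if_neg (by decide)

/-- A point with values in a field over a given point. -/
theorem exists_pt (w : AA B) : ∃ (K : CommRingCat.{u}) (_ : IsField K)
    (ψ : CommRingCat.of (Polynomial B) ⟶ K), ∀ f : Polynomial B, ψ.hom f = 0 ↔ f ∈ w.asIdeal := by
  let A := Polynomial B ⧸ w.asIdeal
  have : w.asIdeal.IsPrime := w.isPrime
  have : IsDomain A := inferInstanceAs (IsDomain (Polynomial B ⧸ w.asIdeal))
  refine ⟨CommRingCat.of (FractionRing A), Field.toIsField (FractionRing A),
    CommRingCat.ofHom ((algebraMap A (FractionRing A)).comp (Ideal.Quotient.mk w.asIdeal)), fun f => ?_⟩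
  change algebraMap A (FractionRing A) (Ideal.Quotient.mk w.asIdeal f) = 0 ↔ _
  rw [← Ideal.Quotient.eq_zero_iff_mem]
  exact map_eq_zero_iff _ (IsFractionRing.injective A (FractionRing A))

variable {B}

theorem spec_map_apply {K : CommRingCat.{u}} (hK : IsField K)
    (ψ : CommRingCat.of (Polynomial B) ⟶ K) (w : AA B)
    (hψ : ∀ f : Polynomial B, ψ.hom f = 0 ↔ f ∈ w.asIdeal) (x : Spec K) :
    Spec.map ψ x = w := by
  letI := hK.toField
  apply PrimeSpectrum.ext
  ext f
  rw [← hψ]
  change ψ.hom f ∈ x.asIdeal ↔ _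
  have : x.asIdeal = ⊥ := by
    have h1 := Ideal.eq_bot_or_top (K := K) x.asIdeal
    exact h1.resolve_right x.isPrime.ne_top
  rw [this]
  exact Ideal.mem_bot

/-- Overlap of the charts. -/
theorem overlap {w w' : AA B} (h : chart 0 B w = chart 1 B w') :
    eqn B y g 0 ∈ w.asIdeal ↔ eqn B y g 1 ∈ w'.asIdeal := by
  obtain ⟨K, hK, ψ, hψ⟩ := exists_pt B w
  letI := hK.toField
  have hr : Set.range (Spec.map ψ ≫ chart 0 B) ⊆ Set.range (chart 1 B) := by
    rintro _ ⟨x, rfl⟩
    rw [Scheme.Hom.comp_apply, spec_map_apply hK ψ w hψ, h]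
    exact ⟨w', rfl⟩
  let l : Spec K ⟶ AA B := IsOpenImmersion.lift (chart 1 B) (Spec.map ψ ≫ chart 0 B) hr
  have hl : l ≫ chart 1 B = Spec.map ψ ≫ chart 0 B := IsOpenImmersion.lift_fac _ _ _
  obtain ⟨ψ', hψ'⟩ := Spec.map_surjective l
  have hw' : ∀ x : Spec K, Spec.map ψ' x = w' := by
    intro x
    apply (chart 1 B).isOpenEmbedding.injective
    rw [← h, ← Scheme.Hom.comp_apply, hψ', hl, Scheme.Hom.comp_apply, spec_map_apply hK ψ w hψ]
  have hψ2 : ∀ f : Polynomial B, ψ'.hom f = 0 ↔ f ∈ w'.asIdeal := by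
    intro f
    let x : Spec K := (⟨⊥, Ideal.isPrime_bot⟩ : PrimeSpectrum K)
    rw [← hw' x]
    change _ ↔ ψ'.hom f ∈ (⊥ : Ideal K)
    rw [Ideal.mem_bot]
  set φ := CommRingCat.ofHom (Polynomial.C : B →+* Polynomial B) ≫ ψ with hφ
  set φ' := CommRingCat.ofHom (Polynomial.C : B →+* Polynomial B) ≫ ψ' with hφ'
  set c := ψ.hom Polynomial.X with hc
  set c' := ψ'.hom Polynomial.X with hc'
  have e1 : ψ = evh φ c := eq_evh ψ
  have e2 : ψ' = evh φ' c' := eq_evh ψ'
  have hpt : pt (0 : Fin (1 + 1)) (Spec.map φ) c = pt (0 + 1) (Spec.map φ') c' :=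
    (evh_chart (0 : Fin (1 + 1)) φ c).symm.trans
      ((congrArg (fun t => Spec.map t ≫ chart 0 B) e1.symm).trans (hl.symm.trans
        ((congrArg (fun t => t ≫ chart 1 B) hψ'.symm).trans
          ((congrArg (fun t => Spec.map t ≫ chart 1 B) e2).trans (evh_chart 1 φ' c')))))
  have hcc : c * c' = 1 := mul_eq_one_of_pt_eq 0 hpt
  have hφφ : φ = φ' := by
    have := congrArg (fun q => q ≫ CohB1.ProjSpaceOver.toBase 1 (Spec B)) hpt
    simp only [pt_toBase] at this
    exact Spec.map_injective this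
  have e3 : ψ.hom (eqn B y g 0) = φ.hom y * c - φ.hom g := by
    rw [eqn_zero, map_sub, map_mul]
    rfl
  have e4 : ψ'.hom (eqn B y g 1) = φ.hom y - φ.hom g * c' := by
    rw [eqn_one, map_sub, map_mul, hφφ]
    rfl
  rw [← hψ, ← hψ2, e3, e4]
  have e5 : φ.hom y - φ.hom g * c' = (φ.hom y * c - φ.hom g) * c' := by
    rw [sub_mul, mul_assoc, hcc, mul_one]
  rw [e5]
  constructor
  · intro h; rw [h, zero_mul]
  · intro h
    have h2 := congrArg (fun t => t * c) h
    simp only [zero_mul, mul_assoc, mul_comm c' c, hcc, mul_one] at h2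
    exact h2

variable (B)

/-- The complement of the divisor `{y u = g v}` in the projective line. -/
def vset : Set (PP B) := {z | ∀ (i : Fin (1 + 1)) (w : AA B), chart i B w = z → eqn B y g i ∉ w.asIdeal}

variable {B}

theorem mem_vset (i : Fin (1 + 1)) (w : AA B) :
    chart i B w ∈ vset B y g ↔ eqn B y g i ∉ w.asIdeal := by
  refine ⟨fun h => h i w rfl, fun h j w' hw' => ?_⟩
  fin_cases i <;> fin_cases j
  · rw [(chart 0 B).isOpenEmbedding.injective hw']
    exact h
  · intro h2
    exact h ((overlap y g (w := w) (w' := w') hw'.symm).2 h2)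
  · intro h2
    exact h ((overlap y g (w := w') (w' := w) hw').1 h2)
  · rw [(chart 1 B).isOpenEmbedding.injective hw']
    exact h

theorem isOpen_vset : IsOpen (vset B y g) := by
  have h : vset B y g = ⋃ i : Fin (1 + 1), chart i B '' {w | eqn B y g i ∉ w.asIdeal} := by
    ext z
    constructor
    · intro hz
      obtain ⟨i, w, rfl⟩ := chart_cover B z
      exact Set.mem_iUnion.2 ⟨i, w, (mem_vset y g i w).1 hz, rfl⟩
    · intro hz
      obtain ⟨i, w, hw, rfl⟩ := Set.mem_iUnion.1 hz
      exact (mem_vset y g i w).2 hw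
  rw [h]
  refine isOpen_iUnion fun i => ?_
  exact (chart i B).isOpenEmbedding.isOpenMap _ (PrimeSpectrum.basicOpen (eqn B y g i)).isOpen

variable (B) in
/-- The complement of the divisor `{y u = g v}`, as an open subset. -/
noncomputable def V : (PP B).Opens := ⟨vset B y g, isOpen_vset y g⟩

section baseChange

variable {B' : CommRingCat.{u}} (φ : B ⟶ B')

/-- The map of affine lines. -/
noncomputable abbrev amap : AA B' ⟶ AA B :=
  Spec.map (CommRingCat.ofHom (Polynomial.mapRingHom φ.hom))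

theorem chart_toP1 (i : Fin (1 + 1)) : chart i B' ≫ toP1 (Spec.map φ) = amap φ ≫ chart i B := by
  unfold chart
  rw [pt_toP1, map_pt]
  congr 1
  · rw [← Spec.map_comp, ← Spec.map_comp]
    congr 1
    ext b
    simp
  · simp

theorem map_eqn (i : Fin (1 + 1)) :
    Polynomial.mapRingHom φ.hom (eqn B y g i) = eqn B' (φ.hom y) (φ.hom g) i := by
  unfold eqn
  split_ifs <;> simp

theorem preimage_vset : toP1 (Spec.map φ) ⁻¹' (vset B y g) = vset B' (φ.hom y) (φ.hom g) := by
  ext z
  obtain ⟨i, w, rfl⟩ := chart_cover B' z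
  rw [Set.mem_preimage, mem_vset, ← Scheme.Hom.comp_apply, chart_toP1, Scheme.Hom.comp_apply,
    mem_vset, ← map_eqn]
  rfl

end baseChange

section poly

variable {κ : Type u} [Field κ] (I : Ideal (Polynomial κ))

theorem poly_a {y g : κ} (hy : y ≠ 0)
    (h : (Polynomial.C y * Polynomial.X - Polynomial.C g : Polynomial κ) ∈ I) :
    (Polynomial.X - Polynomial.C (g / y) : Polynomial κ) ∈ I := by
  have h1 := Ideal.mul_mem_left I (Polynomial.C (y⁻¹) : Polynomial κ) h
  convert h1 using 1
  rw [mul_sub, ← mul_assoc, ← Polynomial.C_mul, ← Polynomial.C_mul, inv_mul_cancel₀ hy,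
    Polynomial.C_1, one_mul, div_eq_inv_mul]

theorem poly_b {g : κ} (hg : g ≠ 0)
    (h : (Polynomial.C 0 - Polynomial.C g * Polynomial.X : Polynomial κ) ∈ I) :
    (Polynomial.X - Polynomial.C 0 : Polynomial κ) ∈ I := by
  have h1 := Ideal.mul_mem_left I (Polynomial.C (-g⁻¹) : Polynomial κ) h
  convert h1 using 1
  rw [map_zero, zero_sub, sub_zero, mul_neg, ← mul_assoc, ← Polynomial.C_mul, neg_mul,
    inv_mul_cancel₀ hg, map_neg, Polynomial.C_1, neg_mul, one_mul, neg_neg]

theorem poly_c (hI : I ≠ ⊤) {c : κ} (h : (Polynomial.C c : Polynomial κ) ∈ I) : c = 0 := by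
  by_contra hc
  exact hI (Ideal.eq_top_of_isUnit_mem _ h (Polynomial.isUnit_C.2 (isUnit_iff_ne_zero.2 hc)))

theorem poly_d (hI : I ≠ ⊤) {y g : κ} (hy : y ≠ 0)
    (h : (Polynomial.C y - Polynomial.C g * Polynomial.X : Polynomial κ) ∈ I) :
    (Polynomial.X : Polynomial κ) ∉ I := fun hX => hy (poly_c I hI (by
  have := add_mem h (Ideal.mul_mem_left I (Polynomial.C g) hX)
  rwa [sub_add_cancel] at this))

theorem poly_e (hI : I ≠ ⊤) {c : κ} (hc : (Polynomial.X - Polynomial.C c : Polynomial κ) ∈ I)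
    (f : Polynomial κ) : f.eval c = 0 ↔ f ∈ I := by
  have h3 : f - Polynomial.C (f.eval c) ∈ I := by
    obtain ⟨q, hq⟩ := Polynomial.X_sub_C_dvd_sub_C_eval (a := c) (p := f)
    rw [hq]
    exact Ideal.mul_mem_right _ _ hc
  constructor
  · intro h4
    rw [h4, map_zero, sub_zero] at h3
    exact h3
  · intro h4
    refine poly_c I hI ?_
    have := sub_mem h4 h3
    rwa [sub_sub_cancel] at this

end poly

section field

variable {κ : Type u} [Field κ] (y g : κ)

theorem vset_zero : vset (CommRingCat.of κ) (0 : κ) (0 : κ) = ∅ := by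
  rw [Set.eq_empty_iff_forall_notMem]
  intro z hz
  obtain ⟨i, w, rfl⟩ := chart_cover _ z
  refine (mem_vset _ _ i w).1 hz ?_
  have : eqn (CommRingCat.of κ) (0 : κ) (0 : κ) i = 0 := by
    unfold eqn
    split_ifs <;> simp
  rw [this]
  exact zero_mem _

/-- The rational point of the divisor. -/
noncomputable def sig : Spec (CommRingCat.of κ) ⟶ PP (CommRingCat.of κ) := by
  classical
  exact if y = 0 then pt (B := CommRingCat.of κ) 1 (𝟙 _) (0 : κ)
    else pt (B := CommRingCat.of κ) 0 (𝟙 _) (g / y : κ)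

theorem sig_toB : sig y g ≫ toB (CommRingCat.of κ) = 𝟙 _ := by
  unfold sig
  split_ifs <;> exact pt_toBase _ _ _

instance isClosedImmersion_sig : IsClosedImmersion (sig y g) := by
  have h1 : IsClosedImmersion (sig y g ≫ toB (CommRingCat.of κ)) := by
    rw [sig_toB]
    infer_instance
  have h2 : IsSeparated (toB (CommRingCat.of κ)) := by
    have : IsProper (toB (CommRingCat.of κ)) :=
      Groth.Agent.Dix.ProjProper.isProper_toBase 1 (Spec (CommRingCat.of κ))
    infer_instance
  exact IsClosedImmersion.of_comp (sig y g) (toB (CommRingCat.of κ))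

/-- Points with `X ↦ c`. -/
theorem pt_apply (i : Fin (1 + 1)) (c : κ) (x : Spec (CommRingCat.of κ)) (w : AA (CommRingCat.of κ))
    (hw : (Polynomial.X - Polynomial.C c : Polynomial κ) ∈ w.asIdeal) :
    pt (B := CommRingCat.of κ) i (𝟙 _) c x = chart i _ w := by
  have h1 := evh_chart (B := CommRingCat.of κ) i (𝟙 (CommRingCat.of κ)) c
  rw [Spec.map_id] at h1
  rw [← h1, Scheme.Hom.comp_apply]
  congr 1
  refine spec_map_apply (Field.toIsField κ) (evh (𝟙 (CommRingCat.of κ)) c) w (fun f => ?_) x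
  exact poly_e (κ := κ) w.asIdeal w.isPrime.ne_top hw f

theorem sig_apply_of_eq (hy : y = 0) (x : Spec (CommRingCat.of κ)) (w : AA (CommRingCat.of κ))
    (hw : (Polynomial.X - Polynomial.C 0 : Polynomial κ) ∈ w.asIdeal) :
    sig y g x = chart 1 _ w := by
  unfold sig
  rw [if_pos hy]
  exact pt_apply 1 (0 : κ) x w hw

theorem sig_apply_of_ne (hy : y ≠ 0) (x : Spec (CommRingCat.of κ)) (w : AA (CommRingCat.of κ))
    (hw : (Polynomial.X - Polynomial.C (g / y) : Polynomial κ) ∈ w.asIdeal) :
    sig y g x = chart 0 _ w := by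
  unfold sig
  rw [if_neg hy]
  exact pt_apply 0 (g / y : κ) x w hw

/-- The maximal ideal `X = c`. -/
noncomputable def aPt (c : κ) : AA (CommRingCat.of κ) :=
  (⟨Ideal.comap (Polynomial.evalRingHom c) ⊥, inferInstance⟩ : PrimeSpectrum (Polynomial κ))

theorem mem_aPt (c : κ) (f : Polynomial κ) : f ∈ (aPt c).asIdeal ↔ f.eval c = 0 := Iff.rfl

theorem notMem_vset_of_poly {w : AA (CommRingCat.of κ)}
    (h : (Polynomial.C y * Polynomial.X - Polynomial.C g : Polynomial κ) ∈ w.asIdeal) :
    chart 0 _ w ∉ vset (CommRingCat.of κ) y g := by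
  rw [mem_vset, not_not, eqn_zero]
  exact h

theorem notMem_vset_of_poly' {w : AA (CommRingCat.of κ)}
    (h : (Polynomial.C y - Polynomial.C g * Polynomial.X : Polynomial κ) ∈ w.asIdeal) :
    chart 1 _ w ∉ vset (CommRingCat.of κ) y g := by
  rw [mem_vset, not_not, eqn_one]
  exact h

theorem poly_of_notMem {w : AA (CommRingCat.of κ)}
    (h : chart 0 _ w ∉ vset (CommRingCat.of κ) y g) :
    (Polynomial.C y * Polynomial.X - Polynomial.C g : Polynomial κ) ∈ w.asIdeal := by
  rw [mem_vset, not_not, eqn_zero] at h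
  exact h

theorem poly_of_notMem' {w : AA (CommRingCat.of κ)}
    (h : chart 1 _ w ∉ vset (CommRingCat.of κ) y g) :
    (Polynomial.C y - Polynomial.C g * Polynomial.X : Polynomial κ) ∈ w.asIdeal := by
  rw [mem_vset, not_not, eqn_one] at h
  exact h

theorem range_sig (h : ¬ (y = 0 ∧ g = 0)) :
    Set.range (sig y g) = (vset (CommRingCat.of κ) y g)ᶜ := by
  ext z
  rw [Set.mem_compl_iff]
  constructor
  · rintro ⟨x, rfl⟩
    by_cases hy : y = 0
    · rw [sig_apply_of_eq y g hy x (aPt 0) ((mem_aPt 0 _).2 (by simp))]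
      exact notMem_vset_of_poly' y g ((mem_aPt 0 _).2 (by simp [hy]))
    · rw [sig_apply_of_ne y g hy x (aPt (g / y)) ((mem_aPt _ _).2 (by simp))]
      refine notMem_vset_of_poly y g ((mem_aPt _ _).2 ?_)
      simp only [Polynomial.eval_sub, Polynomial.eval_mul, Polynomial.eval_C, Polynomial.eval_X]
      rw [mul_div_cancel₀ _ hy, sub_self]
  · intro hz
    obtain ⟨i, w, rfl⟩ := chart_cover _ z
    let x : Spec (CommRingCat.of κ) := (default : Spec (CommRingCat.of κ))
    refine ⟨x, ?_⟩
    have key0 : ∀ w : AA (CommRingCat.of κ), y ≠ 0 →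
        (Polynomial.C y * Polynomial.X - Polynomial.C g : Polynomial κ) ∈ w.asIdeal →
        sig y g x = chart 0 _ w := fun w hy hw =>
      sig_apply_of_ne y g hy x w (poly_a (κ := κ) w.asIdeal hy hw)
    fin_cases i
    · have h1 := poly_of_notMem y g (w := w) hz
      by_cases hy : y = 0
      · exfalso
        have hg : g ≠ 0 := fun hg => h ⟨hy, hg⟩
        refine hg (poly_c (κ := κ) w.asIdeal w.isPrime.ne_top ?_)
        subst hy
        rw [map_zero, zero_mul, zero_sub] at h1
        exact (neg_mem_iff (H := w.asIdeal)).1 h1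
      · exact key0 w hy h1
    · have h1 := poly_of_notMem' y g (w := w) hz
      by_cases hy : y = 0
      · have hg : g ≠ 0 := fun hg => h ⟨hy, hg⟩
        subst hy
        exact sig_apply_of_eq 0 g rfl x w (poly_b (κ := κ) w.asIdeal hg h1)
      · have hX := poly_d (κ := κ) w.asIdeal w.isPrime.ne_top hy h1
        obtain ⟨w', hw'⟩ := (chart_mem_range_iff 0 (CommRingCat.of κ) w).2 hX
        have hw2 : chart 0 (CommRingCat.of κ) w' = chart 1 (CommRingCat.of κ) w := hw'
        have h2 : chart 0 (CommRingCat.of κ) w' ∉ vset (CommRingCat.of κ) y g := by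
          rw [hw2]
          exact hz
        rw [key0 w' hy (poly_of_notMem y g h2)]
        exact hw2

end field

end Groth.Agent.Vancyc.H676.P1V
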